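import Mathlib
import Cfsg.Agent.Lib.Invol.Order95040.SameCounts

/-!
A group of order `p * m` with as many Sylow `p`-subgroups as a simple group with a self-centralizing element
of order `p` is simple, and the same-order counts determine that number.
-/

set_option autoImplicit false
set_option linter.style.haveILetI false
set_option linter.unusedSectionVars false

namespace Cfsg.Agent.Grp.MathieuOrder

open Cfsg.Agent.Invol.M12Ord (ocnt dvd_ocnt ocnt_sylow card_modEq_one)

universe u v

variable {G : Type u} [Group G] [Finite G] {p m e : ℕ}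

theorem fact_one [hp : Fact p.Prime] (hpm : ¬ p ∣ m) : (p * m).factorization p = 1 := by
  rw [Nat.factorization_mul hp.out.ne_zero (fun h => hpm (by rw [h]; exact dvd_zero p)), Finsupp.add_apply,
    hp.out.factorization_self, Nat.factorization_eq_zero_of_not_dvd hpm]

theorem card_sylow [Fact p.Prime] (hG : Nat.card G = p * m) (hpm : ¬ p ∣ m) (P : Sylow p G) :
    Nat.card (P : Subgroup G) = p := by
  rw [P.card_eq_multiplicity, hG, fact_one hpm, pow_one]

/-- With self-centralizing elements of order `p` the number of Sylow subgroups is determined. -/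
theorem sylow_count [hp : Fact p.Prime] (hG : Nat.card G = p * m) (hpm : ¬ p ∣ m)
    (hself : ∀ x g : G, orderOf x = p → g * x = x * g → g ∈ Subgroup.zpowers x)
    (hu : ∀ k ∈ (p - 1).divisors, k ∣ m → m / k % p = 1 → k = e) :
    Nat.card (Sylow p G) * e = m := by
  obtain ⟨P⟩ : Nonempty (Sylow p G) := inferInstance
  set N := Subgroup.normalizer ((P : Subgroup G) : Set G) with hN
  have hPc := card_sylow hG hpm P
  obtain ⟨x, hx⟩ := exists_prime_orderOf_dvd_card' (G := (P : Subgroup G)) p (dvd_of_eq hPc.symm)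
  rw [← Subgroup.orderOf_coe] at hx
  have hz : Subgroup.zpowers (x : G) = (P : Subgroup G) :=
    Subgroup.eq_of_le_of_card_ge (Subgroup.zpowers_le.2 x.2) (by rw [Nat.card_zpowers, hx, hPc])
  have hker : (P : Subgroup G).normalizerMonoidHom.ker = (P : Subgroup G).subgroupOf N := by
    rw [Subgroup.normalizerMonoidHom_ker]
    ext g
    simp only [Subgroup.mem_subgroupOf, Subgroup.mem_centralizer_iff]
    refine ⟨fun h => ?_, fun h y hy => ?_⟩
    · rw [← hz]
      exact hself _ _ hx (h _ x.2).symm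
    rw [← hz] at h
    have hy' : y ∈ Subgroup.zpowers (x : G) := by rw [hz]; exact hy
    obtain ⟨i, hi⟩ := Subgroup.mem_zpowers_iff.1 h
    obtain ⟨j, rfl⟩ := Subgroup.mem_zpowers_iff.1 hy'
    rw [← hi]
    exact (Commute.zpow_zpow (Commute.refl _) j i).eq
  have hdvd := Subgroup.card_subgroup_dvd_card ((P : Subgroup G).normalizerMonoidHom).range
  have hind : Nat.card ((P : Subgroup G).normalizerMonoidHom).range * p = Nat.card N := by
    have h1 := Subgroup.card_eq_card_quotient_mul_card_subgroup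
      ((P : Subgroup G).normalizerMonoidHom).ker
    rw [Nat.card_congr (QuotientGroup.quotientKerEquivRange _).toEquiv] at h1
    rw [h1, hker, Nat.card_congr (Subgroup.subgroupOfEquivOfLe Subgroup.le_normalizer).toEquiv, hPc]
  haveI : IsCyclic (P : Subgroup G) := isCyclic_of_prime_card hPc
  rw [IsCyclic.card_mulAut, hPc, Nat.totient_prime hp.out] at hdvd
  set k := Nat.card ((P : Subgroup G).normalizerMonoidHom).range with hk
  have hmul : k * p * Nat.card (Sylow p G) = p * m := by
    rw [hind, P.card_eq_index_normalizer, ← hG]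
    exact N.card_mul_index
  have hm : Nat.card (Sylow p G) * k = m := by
    refine Nat.eq_of_mul_eq_mul_left hp.out.pos ?_
    rw [← hmul]; ring
  have hk0 : 0 < k := Nat.card_pos
  have hdiv : m / k = Nat.card (Sylow p G) := by rw [← hm, Nat.mul_div_cancel _ hk0]
  have hmod : Nat.card (Sylow p G) % p = 1 % p := card_sylow_modEq_one p G
  rw [Nat.one_mod_eq_one.2 hp.out.ne_one] at hmod
  rw [← hu k (Nat.mem_divisors.2 ⟨hdvd, by have := hp.out.two_le; omega⟩)
    (hm ▸ dvd_mul_left _ _) (by rw [hdiv, hmod])]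
  exact hm

/-- The count of elements of order `p` is read off from the set of counts. -/
theorem count_of_nse [hp : Fact p.Prime] (hp2 : p ≠ 2) (hG : Nat.card G = p * m) (hpm : ¬ p ∣ m)
    {M : Type v} [Group M] [Finite M] (hM : Nat.card M = p * m)
    (hself : ∀ x g : M, orderOf x = p → g * x = x * g → g ∈ Subgroup.zpowers x)
    (hnse : {c : ℕ | 0 < c ∧ ∃ n : ℕ, c = Nat.card {g : G // orderOf g = n}} =
      {c : ℕ | 0 < c ∧ ∃ n : ℕ, c = Nat.card {g : M // orderOf g = n}}) :
    Nat.card (Sylow p G) = Nat.card (Sylow p M) := by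
  have hn : ocnt G p = Nat.card (Sylow p G) * (p - 1) := ocnt_sylow (by rw [hG, fact_one hpm])
  have hnM : ocnt M p = Nat.card (Sylow p M) * (p - 1) := ocnt_sylow (by rw [hM, fact_one hpm])
  have hp1 : 0 < p - 1 := by have := hp.out.two_le; omega
  have hpos : 0 < ocnt G p := by rw [hn]; exact Nat.mul_pos Nat.card_pos hp1
  have hmem : ocnt G p ∈ {c : ℕ | 0 < c ∧ ∃ n : ℕ, c = Nat.card {g : G // orderOf g = n}} :=
    ⟨hpos, p, rfl⟩
  rw [hnse] at hmem
  obtain ⟨-, n, hcn⟩ := hmem
  rcases eq_or_ne n p with rfl | hne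
  · refine Nat.eq_of_mul_eq_mul_right hp1 ?_
    rw [← hn, ← hnM]
    exact hcn
  exfalso
  rcases eq_or_ne n 1 with rfl | h1
  · have e1 : Nat.card {g : M // orderOf g = 1} = 1 := by simp [orderOf_eq_one_iff]
    rw [e1, hn] at hcn
    have := Nat.eq_one_of_mul_eq_one_left hcn
    omega
  · have hd : p ∣ Nat.card (Sylow p G) * (p - 1) := by
      rw [← hn, hcn]
      exact dvd_ocnt (hM ▸ dvd_mul_right p m) hself h1 hne
    rcases hp.out.dvd_mul.1 hd with h | h
    · have hmod : Nat.card (Sylow p G) % p = 1 % p := card_sylow_modEq_one p G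
      rw [Nat.mod_eq_zero_of_dvd h, Nat.one_mod_eq_one.2 hp.out.ne_one] at hmod
      omega
    · have := Nat.le_of_dvd hp1 h
      omega

/-- An invariant Sylow subgroup with no fixed point under an element of order `p` is trivial. -/
theorem factor_eq_zero [hp : Fact p.Prime] {x : G} (hx : orderOf x = p) (K : Subgroup G) (hKm : Nat.card K ∣ m)
    (hpm : ¬ p ∣ m) (hK : Subgroup.zpowers x ≤ Subgroup.normalizer (K : Set G))
    (hfix : ∀ y ∈ K, x * y = y * x → y = 1) {q : ℕ} [hq : Fact q.Prime]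
    (hpow : ∀ k, q ^ k ∣ m → q ^ k % p = 1 → k = 0) : (Nat.card K).factorization q = 0 := by
  obtain ⟨S, hS, hSA⟩ := Grp.exists_invariant_sylow (Subgroup.zpowers x) K hK
    (by rw [Nat.card_zpowers, hx]; exact (hp.out.coprime_iff_not_dvd).2 fun h => hpm (h.trans hKm))
    (Or.inl inferInstance) q
  have h := card_modEq_one hx S (hSA (Subgroup.mem_zpowers x)) fun y hy hc => hfix y (hS.1 hy) hc
  rw [hS.card, Nat.ModEq, Nat.one_mod_eq_one.2 hp.out.ne_one] at h
  exact hpow _ ((Nat.ordProj_dvd _ _).trans hKm) h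

/-- Simplicity from the number of Sylow subgroups. -/
theorem simple_of_count [hp : Fact p.Prime] (he : e.Prime) (hG : Nat.card G = p * m) (hpm : ¬ p ∣ m)
    (hn : Nat.card (Sylow p G) * e = m) {q₀ : ℕ} (hq₀ : q₀.Prime) (hq₀m : q₀ ∣ m) (hq₀e : q₀ ≠ e)
    (hpow : ∀ q : ℕ, q.Prime → ∀ k, q ^ k ∣ m → q ^ k % p = 1 → k = 0) : IsSimpleGroup G := by
  classical
  haveI : Nontrivial G := Finite.one_lt_card_iff_nontrivial.1
    (hG ▸ hp.out.one_lt.trans_le
      (Nat.le_mul_of_pos_right p (Nat.pos_of_ne_zero fun h => hpm (by rw [h]; exact dvd_zero p))))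
  haveI : Fact q₀.Prime := ⟨hq₀⟩
  have hpe : p ≠ e := fun h => hpm (h ▸ hn ▸ dvd_mul_left _ _)
  have hq₀p : q₀ ≠ p := fun h => hpm (h ▸ hq₀m)
  obtain ⟨P⟩ : Nonempty (Sylow p G) := inferInstance
  have hPc := card_sylow hG hpm P
  obtain ⟨x, hx⟩ := exists_prime_orderOf_dvd_card' (G := (P : Subgroup G)) p (dvd_of_eq hPc.symm)
  rw [← Subgroup.orderOf_coe] at hx
  have hz : Subgroup.zpowers (x : G) = (P : Subgroup G) :=
    Subgroup.eq_of_le_of_card_ge (Subgroup.zpowers_le.2 x.2) (by rw [Nat.card_zpowers, hx, hPc])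
  set N := Subgroup.normalizer ((P : Subgroup G) : Set G) with hNdef
  have hN : Nat.card N = p * e := by
    have h2 := N.card_mul_index
    rw [show N.index = Nat.card (Sylow p G) from P.card_eq_index_normalizer.symm, hG] at h2
    refine Nat.eq_of_mul_eq_mul_right (Nat.card_pos (α := Sylow p G)) ?_
    rw [h2, ← hn]; ring
  set C := Subgroup.centralizer ({(x : G)} : Set G) with hC
  have hCx : Subgroup.centralizer ((P : Subgroup G) : Set G) = C := by
    rw [← hz, Subgroup.zpowers_eq_closure, Subgroup.centralizer_closure]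
  have hCN : C ≤ N := hCx ▸ Subgroup.centralizer_le_normalizer _
  -- the centralizer is the Sylow subgroup
  have hCp : Nat.card C = p := by
    have hPC : (P : Subgroup G) ≤ C := by
      rw [← hz]; exact Subgroup.zpowers_le.2 (Subgroup.mem_centralizer_singleton_iff.2 rfl)
    obtain ⟨k, hk⟩ : p ∣ Nat.card C := hPc ▸ Subgroup.card_dvd_of_le hPC
    have h1 := Subgroup.card_dvd_of_le hCN
    rw [hN, hk] at h1
    rcases (Nat.dvd_prime he).1 (Nat.dvd_of_mul_dvd_mul_left hp.out.pos h1) with rfl | rfl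
    · rw [hk, mul_one]
    exfalso
    have hNC : C = N := Subgroup.eq_of_le_of_card_ge hCN (by rw [hN, hk])
    have hNC' : Subgroup.normalizer (P : Set G) ≤ Subgroup.centralizer (P : Set G) := by
      show N ≤ Subgroup.centralizer ((P : Subgroup G) : Set G)
      rw [hCx, hNC]
    set K := (MonoidHom.transferSylow P hNC').ker with hK
    have hKm : Nat.card K = m := by
      have h := (MonoidHom.ker_transferSylow_isComplement' P hNC').card_mul
      rw [hPc, hG, ← hK, mul_comm p m] at h
      exact Nat.eq_of_mul_eq_mul_right hp.out.pos h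
    obtain ⟨S, hS, hSA⟩ := Grp.exists_invariant_sylow (Subgroup.zpowers (x : G)) K
      (by rw [Subgroup.normalizer_eq_top]; exact le_top)
      (by rw [Nat.card_zpowers, hx, hKm]; exact (hp.out.coprime_iff_not_dvd).2 hpm)
      (Or.inl inferInstance) q₀
    have hScard := hS.card
    rw [hKm] at hScard
    have h := card_modEq_one hx S (hSA (Subgroup.mem_zpowers _)) fun y hy hc => by
      have d1 := Subgroup.orderOf_dvd_natCard _ hy
      have d2 : orderOf y ∣ Nat.card C :=
        Subgroup.orderOf_dvd_natCard _ (Subgroup.mem_centralizer_singleton_iff.2 hc.symm)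
      rw [hScard] at d1
      rw [hk] at d2
      refine orderOf_eq_one_iff.1 (Nat.eq_one_of_dvd_coprimes (Nat.Coprime.pow_left _ ?_) d1 d2)
      exact Nat.Coprime.mul_right ((Nat.coprime_primes hq₀ hp.out).2 hq₀p)
        ((Nat.coprime_primes hq₀ he).2 hq₀e)
    rw [hScard, Nat.ModEq, Nat.one_mod_eq_one.2 hp.out.ne_one] at h
    exact (Nat.Prime.factorization_pos_of_dvd hq₀ (fun e0 => hpm (by rw [e0]; exact dvd_zero p)) hq₀m).ne'
      (hpow q₀ hq₀ _ (Nat.ordProj_dvd _ _) h)
  have hfix : ∀ K : Subgroup G, Nat.card K ∣ m → ∀ y ∈ K, (x : G) * y = y * x → y = 1 := by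
    intro K hK y hy hc
    have d1 := (Subgroup.orderOf_dvd_natCard _ hy).trans hK
    have d2 := Subgroup.orderOf_dvd_natCard C (Subgroup.mem_centralizer_singleton_iff.2 hc.symm)
    rw [hCp] at d2
    rcases (Nat.dvd_prime hp.out).1 d2 with h | h
    · exact orderOf_eq_one_iff.1 h
    · exact absurd (h ▸ d1) hpm
  have htriv : ∀ K : Subgroup G, Nat.card K ∣ m →
      Subgroup.zpowers (x : G) ≤ Subgroup.normalizer (K : Set G) → Nat.card K = 1 := by
    intro K hK hxK
    by_contra hne
    obtain ⟨q, hq, hqd⟩ := Nat.exists_prime_and_dvd hne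
    haveI : Fact q.Prime := ⟨hq⟩
    exact (Nat.Prime.factorization_pos_of_dvd hq Nat.card_pos.ne' hqd).ne'
      (factor_eq_zero hx K hK hpm hxK (hfix K hK) (hpow q hq))
  refine ⟨fun M hM => ?_⟩
  by_cases hpM : p ∣ Nat.card M
  swap
  · refine Or.inl (Subgroup.card_eq_one.1 (htriv M ?_ (by rw [Subgroup.normalizer_eq_top]; exact le_top)))
    have h1 := M.card_subgroup_dvd_card
    rw [hG] at h1
    exact ((hp.out.coprime_iff_not_dvd).2 hpM).symm.dvd_of_dvd_mul_left h1
  right
  -- every Sylow subgroup lies in `M`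
  have hle : (P : Subgroup G) ≤ M := by
    obtain ⟨y, hy⟩ := exists_prime_orderOf_dvd_card' (G := M) p hpM
    rw [← Subgroup.orderOf_coe] at hy
    obtain ⟨Q, hQ⟩ := (IsPGroup.of_card (n := 1) (by rw [Nat.card_zpowers, hy, pow_one]) :
      IsPGroup p (Subgroup.zpowers (y : G))).exists_le_sylow
    have hQy : (Q : Subgroup G) = Subgroup.zpowers (y : G) :=
      (Subgroup.eq_of_le_of_card_ge hQ (by rw [Nat.card_zpowers, hy, card_sylow hG hpm Q])).symm
    obtain ⟨g, rfl⟩ := MulAction.exists_smul_eq G Q P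
    rw [Sylow.smul_def, Sylow.pointwise_smul_def]
    rintro _ ⟨a, ha, rfl⟩
    refine hM.conj_mem a ?_ g
    have ha' : a ∈ Subgroup.zpowers (y : G) := hQy ▸ ha
    exact Subgroup.zpowers_le.2 y.2 ha'
  have hidx : (N.subgroupOf M).index = N.index := by
    have hsup : M ⊔ N = ⊤ := Sylow.normalizer_sup_eq_top' P hle |> fun h => by rwa [sup_comm] at h
    show N.relIndex M = N.index
    have h1 := Subgroup.relIndex_mul_index (inf_le_right : M ⊓ N ≤ N)
    have h2 := Subgroup.relIndex_mul_index (inf_le_left : M ⊓ N ≤ M)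
    have h3 : M.relIndex N = M.index := by
      rw [← Subgroup.relIndex_sup_right (K := M) N, sup_comm N M, hsup, Subgroup.relIndex_top_right]
    rw [Subgroup.inf_relIndex_right, h3] at h1
    rw [Subgroup.inf_relIndex_left, ← h1, mul_comm M.index N.index] at h2
    exact Nat.eq_of_mul_eq_mul_right (Nat.pos_of_ne_zero M.index_ne_zero_of_finite) h2
  have hNM := (N.subgroupOf M).card_mul_index
  rw [hidx, show N.index = Nat.card (Sylow p G) from P.card_eq_index_normalizer.symm] at hNM
  set NM := Nat.card (N.subgroupOf M) with hNMdef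
  obtain ⟨k, hk⟩ : p ∣ NM := by
    rw [hNMdef, ← Subgroup.card_map_of_injective M.subtype_injective, Subgroup.subgroupOf_map_subtype, ← hPc]
    exact Subgroup.card_dvd_of_le (le_inf Subgroup.le_normalizer hle)
  have hke : k ∣ e := by
    have h : NM ∣ Nat.card N := by
      rw [hNMdef, ← Subgroup.card_map_of_injective M.subtype_injective, Subgroup.subgroupOf_map_subtype]
      exact Subgroup.card_dvd_of_le inf_le_left
    rw [hN, hk] at h
    exact Nat.dvd_of_mul_dvd_mul_left hp.out.pos h
  rcases (Nat.dvd_prime he).1 hke with rfl | rfl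
  swap
  · exact Subgroup.eq_top_of_card_eq _ (by rw [← hNM, hk, hG, ← hn]; ring)
  exfalso
  -- a normal complement in `M` would be trivial
  set PM : Sylow p M := P.subtype hle with hPM
  have hcoe : ((PM : Subgroup M)).map M.subtype = (P : Subgroup G) := by
    rw [hPM, Sylow.coe_subtype, Subgroup.subgroupOf_map_subtype, inf_eq_left.2 hle]
  have hMN : Nat.card ↥(M ⊓ N) = p := by
    rw [inf_comm, ← Subgroup.subgroupOf_map_subtype, Subgroup.card_map_of_injective M.subtype_injective,
      ← hNMdef, hk, mul_one]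
  have hMNP : M ⊓ N = (P : Subgroup G) :=
    (Subgroup.eq_of_le_of_card_ge (le_inf hle Subgroup.le_normalizer) (by rw [hMN, hPc])).symm
  have hNC : Subgroup.normalizer (PM : Set M) ≤ Subgroup.centralizer (PM : Set M) := by
    intro a ha
    have haN : (a : G) ∈ N := by
      rw [hNdef, Subgroup.mem_normalizer_iff]
      intro h
      constructor
      · intro hh
        have h1 := (Subgroup.mem_normalizer_iff.1 ha ⟨h, hle hh⟩).1 (by
          rw [hPM, Sylow.coe_subtype, Subgroup.mem_subgroupOf]; exact hh)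
        rw [hPM, Sylow.coe_subtype, Subgroup.mem_subgroupOf] at h1
        exact h1
      · intro hh
        have hhM : h ∈ M := by
          have := M.mul_mem (M.mul_mem (M.inv_mem a.2) (hle hh)) a.2
          simpa [mul_assoc] using this
        have h1 := (Subgroup.mem_normalizer_iff.1 ha ⟨h, hhM⟩).2 (by
          rw [hPM, Sylow.coe_subtype, Subgroup.mem_subgroupOf]; exact hh)
        rw [hPM, Sylow.coe_subtype, Subgroup.mem_subgroupOf] at h1
        exact h1
    have haP : (a : G) ∈ (P : Subgroup G) := hMNP ▸ Subgroup.mem_inf.2 ⟨a.2, haN⟩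
    refine Subgroup.mem_centralizer_iff.2 fun b hb => Subtype.ext ?_
    have hbP : (b : G) ∈ (P : Subgroup G) := by
      have hb' : b ∈ (PM : Subgroup M) := hb
      rw [hPM, Sylow.coe_subtype] at hb'
      exact hb'
    rw [← hz] at haP hbP
    obtain ⟨i, hi⟩ := Subgroup.mem_zpowers_iff.1 hbP
    obtain ⟨j, hj⟩ := Subgroup.mem_zpowers_iff.1 haP
    rw [Subgroup.coe_mul, Subgroup.coe_mul, ← hi, ← hj]
    exact (Commute.zpow_zpow (Commute.refl _) i j).eq
  set K := (MonoidHom.transferSylow PM hNC).ker with hK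
  have hKc : Nat.card K * p = Nat.card M := by
    have h := (MonoidHom.ker_transferSylow_isComplement' PM hNC).card_mul
    have hPMc : Nat.card (PM : Subgroup M) = p := by
      have h' : Nat.card ↥((PM : Subgroup M).map M.subtype) = Nat.card (PM : Subgroup M) :=
        Subgroup.card_map_of_injective M.subtype_injective
      rw [← h', hcoe, hPc]
    rwa [← hK, hPMc] at h
  have hKn : Nat.card K = Nat.card (Sylow p G) := by
    refine Nat.eq_of_mul_eq_mul_right hp.out.pos ?_
    rw [hKc, ← hNM, hk]; ring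
  have hxK : Subgroup.zpowers (x : G) ≤ Subgroup.normalizer ((K.map M.subtype : Subgroup G) : Set G) := by
    refine Subgroup.zpowers_le.2 ?_
    have hxn : (⟨x, hle x.2⟩ : M) ∈ Subgroup.normalizer (K : Set M) := by
      rw [Subgroup.normalizer_eq_top]; exact Subgroup.mem_top _
    rw [Subgroup.mem_normalizer_iff]
    intro h
    constructor
    · rintro ⟨a, ha, rfl⟩
      exact ⟨_, (Subgroup.mem_normalizer_iff.1 hxn a).1 ha, rfl⟩
    · rintro ⟨a, ha, hae⟩
      have hhM : h ∈ M := by
        have h0 : (x : G) * h * (x : G)⁻¹ ∈ M := hae ▸ a.2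
        have := M.mul_mem (M.mul_mem (M.inv_mem (hle x.2)) h0) (hle x.2)
        simpa [mul_assoc] using this
      have e0 : a = (⟨x, hle x.2⟩ : M) * ⟨h, hhM⟩ * (⟨x, hle x.2⟩ : M)⁻¹ := Subtype.ext hae
      exact ⟨⟨h, hhM⟩, (Subgroup.mem_normalizer_iff.1 hxn _).2 (e0 ▸ ha), rfl⟩
  have h1 := htriv (K.map M.subtype) (by
    rw [Subgroup.card_map_of_injective M.subtype_injective, hKn, ← hn]; exact dvd_mul_right _ _) hxK
  rw [Subgroup.card_map_of_injective M.subtype_injective, hKn] at h1
  rw [← hn, h1, one_mul] at hq₀m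
  exact hq₀e ((Nat.prime_dvd_prime_iff_eq hq₀ he).1 hq₀m)

/-- The prime power condition from the factorisation of `m`. -/
theorem pow_check {q k : ℕ} (hq : q.Prime) (hk : q ^ k ∣ m) (hmod : q ^ k % p = 1) {l : List (ℕ × ℕ)}
    (hl : (l.map fun a => a.1 ^ a.2).prod = m ∧ ∀ a ∈ l, a.1.minFac = a.1 ∧ 2 ≤ a.1 ∧ (l.map Prod.fst).Nodup)
    (hc : ∀ a ∈ l, ∀ i ∈ List.range (a.2 + 1), a.1 ^ i % p = 1 → i = 0) : k = 0 := by
  by_contra hk0
  have hqm : q ∣ (l.map fun a => a.1 ^ a.2).prod := hl.1.symm ▸ (dvd_pow_self q hk0).trans hk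
  obtain ⟨b, hb, hqb⟩ := hq.prime.dvd_prod_iff.1 hqm
  obtain ⟨a, ha, rfl⟩ := List.mem_map.1 hb
  obtain ⟨h1, h2, hnd⟩ := hl.2 a ha
  have hap : a.1.Prime := h1 ▸ Nat.minFac_prime (by omega)
  obtain rfl : q = a.1 := (Nat.prime_dvd_prime_iff_eq hq hap).1 (hq.dvd_of_dvd_pow hqb)
  refine hk0 (hc a ha k (List.mem_range.2 (Nat.lt_succ_of_le ?_)) hmod)
  obtain ⟨r, hr⟩ : ∃ r : ℕ, m = a.1 ^ a.2 * r ∧ ¬ a.1 ∣ r := by
    refine ⟨((l.erase a).map fun c => c.1 ^ c.2).prod, ?_, fun hd => ?_⟩
    · rw [← hl.1, ← List.prod_cons, ← List.map_cons (f := fun c : ℕ × ℕ => c.1 ^ c.2)]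
      exact ((List.perm_cons_erase ha).map _).prod_eq
    · obtain ⟨b, hb, hab⟩ := hap.prime.dvd_prod_iff.1 hd
      obtain ⟨c, hc', rfl⟩ := List.mem_map.1 hb
      obtain ⟨h1', h2', -⟩ := hl.2 c (List.mem_of_mem_erase hc')
      have hcp : c.1.Prime := h1' ▸ Nat.minFac_prime (by omega)
      have e := (Nat.prime_dvd_prime_iff_eq hap hcp).1 (hap.dvd_of_dvd_pow hab)
      have hp' : (a.1 :: (l.erase a).map Prod.fst).Nodup :=
        (((List.perm_cons_erase ha).map Prod.fst).nodup_iff).1 hnd
      exact (List.nodup_cons.1 hp').1 (e ▸ List.mem_map_of_mem hc')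
  rw [hr.1] at hk
  exact (Nat.pow_dvd_pow_iff_le_right hq.one_lt).1
    ((((hap.coprime_iff_not_dvd).2 hr.2).pow_left k).dvd_of_dvd_mul_right hk)

end Cfsg.Agent.Grp.MathieuOrder
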