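import Mathlib
import Cfsg.Prelude.Def_Spor_Mathieu
import Cfsg.Agent.Lib.Grp.MathieuOrder.Count
import Cfsg.Agent.Lib.Invol.Order443520.Eleven
import Cfsg.Agent.Lib.Fus.MathieuTwoGroups
import Cfsg.Agent.Lib.Fus.HSRecognition
import Cfsg.Agent.S0364

/-!
Groups of the order of `M₂₂`, `M₂₃`, `M₂₄` with the same set of same-order counts are simple.
-/

set_option autoImplicit false
set_option linter.style.haveILetI false
set_option linter.unusedSectionVars false

namespace Cfsg.Agent.Grp.MathieuOrder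

open Cfsg

universe u

/-- A permutation of prime order `p` of at most `p + 1` points generates its centralizer. -/
theorem perm_self {α : Type*} [Fintype α] [DecidableEq α] {p : ℕ} (hp : p.Prime) (hα : Fintype.card α ≤ p + 1)
    {g x : Equiv.Perm α} (hx : orderOf x = p) (hc : g * x = x * g) : g ∈ Subgroup.zpowers x := by
  have hcyc : x.IsCycle := Equiv.Perm.isCycle_of_prime_order' (hx ▸ hp) (by have := hp.two_le; omega)
  have hsupp : x.support.card = p := by rw [← hcyc.orderOf, hx]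
  obtain ⟨hc', hmem⟩ := hcyc.commute_iff.1 (show Commute g x from hc)
  obtain ⟨k, hk⟩ := Subgroup.mem_zpowers_iff.1 hmem
  refine Subgroup.mem_zpowers_iff.2 ⟨k, Equiv.ext fun a => ?_⟩
  rw [hk]
  by_cases ha : a ∈ x.support
  · rw [Equiv.Perm.ofSubtype_apply_of_mem _ ha]
    rfl
  · rw [Equiv.Perm.ofSubtype_apply_of_not_mem _ ha]
    have h1 : (x.supportᶜ).card ≤ 1 := by rw [Finset.card_compl, hsupp]; omega
    exact Finset.card_le_one.1 h1 a (Finset.mem_compl.2 ha) (g a)
      (Finset.mem_compl.2 fun h => ha ((hc' a).1 h))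

theorem golay_card : Fintype.card GolayPt = 24 := by simp [GolayPt]

theorem self_perm {H : Subgroup (Equiv.Perm GolayPt)} (x g : H) (hx : orderOf x = 23) (hc : g * x = x * g) :
    g ∈ Subgroup.zpowers x := by
  have h := perm_self (by norm_num : Nat.Prime 23) (le_of_eq golay_card)
    (by rw [Subgroup.orderOf_coe]; exact hx) (congrArg Subtype.val hc)
  obtain ⟨k, hk⟩ := Subgroup.mem_zpowers_iff.1 h
  exact Subgroup.mem_zpowers_iff.2 ⟨k, Subtype.ext (by rw [← hk]; rfl)⟩

theorem self22 (x g : ↥Spor.M22) (hx : orderOf x = 11) (hc : g * x = x * g) : g ∈ Subgroup.zpowers x := by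
  haveI : Fact (Nat.Prime 11) := ⟨by norm_num⟩
  haveI := Fus.HSRecognition.simple22
  obtain ⟨B, hB⟩ := Invol.M22Ord.exists_eleven (G := ↥Spor.M22) Fus.Mathieu.card22
  obtain ⟨Q, hQ⟩ := (IsPGroup.of_card (n := 1) (by rw [Nat.card_zpowers, hx, pow_one]) :
    IsPGroup 11 (Subgroup.zpowers x)).exists_le_sylow
  obtain ⟨c, hcQ⟩ := MulAction.exists_smul_eq ↥Spor.M22 Q B.P
  have hQc : Nat.card (Q : Subgroup ↥Spor.M22) = 11 :=
    card_sylow (m := 40320) (by rw [Fus.Mathieu.card22]) (by norm_num) Q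
  have hQx : Subgroup.zpowers x = (Q : Subgroup ↥Spor.M22) :=
    Subgroup.eq_of_le_of_card_ge hQ (by rw [Nat.card_zpowers, hx, hQc])
  have hBC : B.C = (B.P : Subgroup ↥Spor.M22) :=
    (Subgroup.eq_of_le_of_card_ge B.P_le_C (by rw [hB, B.hP])).symm
  have hy : c * g * c⁻¹ ∈ B.C := by
    refine Subgroup.mem_centralizer_iff.2 fun u hu => ?_
    rw [← hcQ, Sylow.smul_def, Sylow.pointwise_smul_def, ← hQx] at hu
    obtain ⟨a, ha, rfl⟩ := hu
    obtain ⟨i, rfl⟩ := Subgroup.mem_zpowers_iff.1 ha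
    show c * x ^ i * c⁻¹ * (c * g * c⁻¹) = c * g * c⁻¹ * (c * x ^ i * c⁻¹)
    calc c * x ^ i * c⁻¹ * (c * g * c⁻¹) = c * (x ^ i * g) * c⁻¹ := by group
      _ = c * (g * x ^ i) * c⁻¹ := by rw [((show Commute g x from hc).zpow_right i).eq]
      _ = c * g * c⁻¹ * (c * x ^ i * c⁻¹) := by group
  rw [hBC, ← hcQ, Sylow.smul_def, Sylow.pointwise_smul_def, ← hQx] at hy
  obtain ⟨a, ha, hae⟩ := hy
  have e : c * a * c⁻¹ = c * g * c⁻¹ := hae
  rwa [← mul_left_cancel (mul_right_cancel e)]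

theorem simple_of_nse22 {G : Type u} [Group G] [Finite G] (hcard : Nat.card G = Nat.card ↥Spor.M22)
    (hnse : {c : ℕ | 0 < c ∧ ∃ n : ℕ, c = Nat.card {g : G // orderOf g = n}} =
      {c : ℕ | 0 < c ∧ ∃ n : ℕ, c = Nat.card {g : ↥Spor.M22 // orderOf g = n}}) : IsM22 G := by
  haveI : Fact (Nat.Prime 11) := ⟨by norm_num⟩
  rw [Fus.Mathieu.card22] at hcard
  refine ⟨?_, hcard⟩
  have hG : Nat.card G = 11 * 40320 := by rw [hcard]
  have hM : Nat.card ↥Spor.M22 = 11 * 40320 := by rw [Fus.Mathieu.card22]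
  refine simple_of_count (e := 5) (by norm_num) hG (by norm_num) ?_ (q₀ := 7) (by norm_num) (by norm_num)
    (by norm_num) ?_
  · rw [count_of_nse (by norm_num) hG (by norm_num) hM self22 hnse]
    exact sylow_count hM (by norm_num) self22 (by decide)
  · intro q hq k hk hmod
    exact pow_check (l := [(2, 7), (3, 2), (5, 1), (7, 1)]) hq hk hmod (by norm_num) (by decide)

theorem simple_of_nse23 {G : Type u} [Group G] [Finite G] (hcard : Nat.card G = Nat.card ↥Spor.M23)
    (hnse : {c : ℕ | 0 < c ∧ ∃ n : ℕ, c = Nat.card {g : G // orderOf g = n}} =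
      {c : ℕ | 0 < c ∧ ∃ n : ℕ, c = Nat.card {g : ↥Spor.M23 // orderOf g = n}}) : IsM23 G := by
  haveI : Fact (Nat.Prime 23) := ⟨by norm_num⟩
  rw [Fus.Mathieu.card23] at hcard
  refine ⟨?_, hcard⟩
  have hG : Nat.card G = 23 * 443520 := by rw [hcard]
  have hM : Nat.card ↥Spor.M23 = 23 * 443520 := by rw [Fus.Mathieu.card23]
  refine simple_of_count (e := 11) (by norm_num) hG (by norm_num) ?_ (q₀ := 7) (by norm_num) (by norm_num)
    (by norm_num) ?_
  · rw [count_of_nse (by norm_num) hG (by norm_num) hM self_perm hnse]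
    exact sylow_count hM (by norm_num) self_perm (by decide)
  · intro q hq k hk hmod
    exact pow_check (l := [(2, 7), (3, 2), (5, 1), (7, 1), (11, 1)]) hq hk hmod (by norm_num) (by decide)

theorem simple_of_nse24 {G : Type u} [Group G] [Finite G] (hcard : Nat.card G = Nat.card ↥Cfsg.M24)
    (hnse : {c : ℕ | 0 < c ∧ ∃ n : ℕ, c = Nat.card {g : G // orderOf g = n}} =
      {c : ℕ | 0 < c ∧ ∃ n : ℕ, c = Nat.card {g : ↥Cfsg.M24 // orderOf g = n}}) : IsM24 G := by
  haveI : Fact (Nat.Prime 23) := ⟨by norm_num⟩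
  rw [S0364.result] at hcard
  refine ⟨?_, hcard⟩
  have hG : Nat.card G = 23 * 10644480 := by rw [hcard]
  have hM : Nat.card ↥Cfsg.M24 = 23 * 10644480 := by rw [S0364.result]
  refine simple_of_count (e := 11) (by norm_num) hG (by norm_num) ?_ (q₀ := 7) (by norm_num) (by norm_num)
    (by norm_num) ?_
  · rw [count_of_nse (by norm_num) hG (by norm_num) hM self_perm hnse]
    exact sylow_count hM (by norm_num) self_perm (by decide)
  · intro q hq k hk hmod
    exact pow_check (l := [(2, 10), (3, 3), (5, 1), (7, 1), (11, 1)]) hq hk hmod (by norm_num) (by decide)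

end Cfsg.Agent.Grp.MathieuOrder
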